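import Mathlib

/-! Flatness over a DVR from a reduced special fibre. -/

set_option autoImplicit false
open CategoryTheory CategoryTheory.Limits AlgebraicGeometry IsLocalRing TensorProduct
universe u

namespace Groth.Agent.DvrFlatRedLib

theorem flat_of_reduced_fibre (R : Type u) [CommRing R] [IsDomain R] [IsDiscreteValuationRing R]
    (A : Type u) [CommRing A] [IsNoetherianRing A] [Algebra R A]
    (hred : _root_.IsReduced ((closedPoint R).asIdeal.Fiber A))
    (hdense : ∀ q ∈ minimalPrimes A, ∀ r ∈ maximalIdeal R, algebraMap R A r ∈ q → r = 0) :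
    Module.Flat R A := by
  obtain ⟨ϖ, hϖ⟩ := IsDiscreteValuationRing.exists_irreducible R
  have hm : maximalIdeal R = Ideal.span {ϖ} := hϖ.maximalIdeal_eq
  let J : Ideal A := (maximalIdeal R).map (algebraMap R A)
  have hker : ∀ x : A, IsNilpotent x → x ∈ J := by
    intro x hx
    have h0 : (1 : (closedPoint R).asIdeal.ResidueField) ⊗ₜ[R] x = (0 : (closedPoint R).asIdeal.Fiber A) := by
      refine hred.eq_zero _ ?_
      exact hx.map (Algebra.TensorProduct.includeRight : A →ₐ[R] (closedPoint R).asIdeal.ResidueField ⊗[R] A)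
    haveI : (closedPoint R).asIdeal.IsMaximal := maximalIdeal.isMaximal R
    let e := RingEquiv.ofBijective _ (Ideal.bijective_algebraMap_quotient_residueField (closedPoint R).asIdeal)
    let ψ : R ⧸ (closedPoint R).asIdeal →+* A ⧸ J := Ideal.quotientMap J (algebraMap R A) Ideal.le_comap_map
    let φ : (closedPoint R).asIdeal.ResidueField →ₐ[R] A ⧸ J :=
      { ψ.comp (e.symm : (closedPoint R).asIdeal.ResidueField →+* R ⧸ (closedPoint R).asIdeal) with
        commutes' := fun r => by
          change ψ (e.symm (algebraMap R _ r)) = algebraMap R (A ⧸ J) r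
          rw [show algebraMap R (closedPoint R).asIdeal.ResidueField r = e (Ideal.Quotient.mk _ r) from
            (IsScalarTower.algebraMap_apply R (R ⧸ (closedPoint R).asIdeal) _ r), RingEquiv.symm_apply_apply]
          rfl }
    have := congrArg (Algebra.TensorProduct.productMap φ (Ideal.Quotient.mkₐ R J)) h0
    rw [Algebra.TensorProduct.productMap_apply_tmul, map_one, one_mul, map_zero] at this
    exact Ideal.Quotient.eq_zero_iff_mem.1 this
  let N : Ideal A := nilradical A
  have hN : N ≤ Ideal.span {algebraMap R A ϖ} • N := by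
    intro x hx
    have hxJ : x ∈ Ideal.span {algebraMap R A ϖ} := by
      have := hker x hx
      rwa [show J = Ideal.span {algebraMap R A ϖ} by simp [J, hm, Ideal.map_span]] at this
    obtain ⟨y, rfl⟩ := Ideal.mem_span_singleton'.1 hxJ
    have hy : y ∈ N := by
      change y ∈ nilradical A
      rw [nilradical_eq_sInf, Ideal.mem_sInf]
      intro q hq
      haveI : q.IsPrime := hq
      obtain ⟨q', hq'min, hle⟩ := Ideal.exists_minimalPrimes_le (J := q) (bot_le : (⊥ : Ideal A) ≤ q)
      have hmem : y * algebraMap R A ϖ ∈ q' := (haveI := hq'min.1.1; nilradical_le_prime q') hx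
      rcases hq'min.1.1.mem_or_mem hmem with h | h
      · exact hle h
      · exact absurd (hdense q' hq'min ϖ (hm ▸ Ideal.mem_span_singleton_self ϖ) h) hϖ.ne_zero
    rw [smul_eq_mul, mul_comm y]
    exact Ideal.mul_mem_mul (Ideal.mem_span_singleton_self _) hy
  obtain ⟨a, ha, haN⟩ := Submodule.exists_sub_one_mem_and_smul_eq_zero_of_fg_of_le_smul _ N
    (IsNoetherian.noetherian _) hN
  have hreg : ∀ x : A, algebraMap R A ϖ * x = 0 → x = 0 := by
    intro x hx
    have hxN : x ∈ N := by
      change x ∈ nilradical A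
      rw [nilradical_eq_sInf, Ideal.mem_sInf]
      intro q hq
      haveI : q.IsPrime := hq
      obtain ⟨q', hq'min, hle⟩ := Ideal.exists_minimalPrimes_le (J := q) (bot_le : (⊥ : Ideal A) ≤ q)
      rcases hq'min.1.1.mem_or_mem (show algebraMap R A ϖ * x ∈ q' by rw [hx]; exact q'.zero_mem) with h | h
      · exact absurd (hdense q' hq'min ϖ (hm ▸ Ideal.mem_span_singleton_self ϖ) h) hϖ.ne_zero
      · exact hle h
    obtain ⟨c, hc⟩ := Ideal.mem_span_singleton'.1 ha
    have hax : a * x = 0 := haN x hxN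
    have h1 : (a - 1) * x = 0 := by rw [← hc, mul_assoc, hx, mul_zero]
    linear_combination hax - h1
  have hpow : ∀ (n : ℕ) (x : A), algebraMap R A (ϖ ^ n) * x = 0 → x = 0 := by
    intro n
    induction n with
    | zero => intro x hx; simpa using hx
    | succ n ih =>
      intro x hx
      rw [pow_succ, map_mul, mul_assoc] at hx
      exact hreg x (ih _ hx)
  haveI : Module.IsTorsionFree R A := ⟨fun r hr x y hxy => by
    obtain ⟨n, u, rfl⟩ := IsDiscreteValuationRing.eq_unit_mul_pow_irreducible hr.ne_zero hϖ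
    simp only [Algebra.smul_def] at hxy
    rw [map_mul, mul_assoc, mul_assoc, (u.isUnit.map (algebraMap R A)).mul_right_inj] at hxy
    exact sub_eq_zero.1 (hpow n _ (by rw [mul_sub, hxy, sub_self]))⟩
  infer_instance

theorem flat_scheme (R : Type u) [CommRing R] [IsDomain R] [IsDiscreteValuationRing R]
    {X : Scheme.{u}} (f : X ⟶ Spec (CommRingCat.of R)) [IsLocallyNoetherian X]
    (hred : IsReduced (f.fiber (closedPoint R)))
    (hdense : Dense (f.base ⁻¹' {genericPoint (Spec (CommRingCat.of R))})) : Flat f := by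
  haveI : IsZariskiLocalAtSource (@AlgebraicGeometry.Flat : MorphismProperty Scheme.{u}) :=
    HasRingHomProperty.instIsZariskiLocalAtSource
  refine IsZariskiLocalAtSource.of_iSup_eq_top (P := @AlgebraicGeometry.Flat) (fun U : X.affineOpens => U.1)
    (iSup_affineOpens_eq_top X) fun U => ?_
  let A : Scheme.{u} := U.1.toScheme
  let j : A ⟶ X := U.1.ι
  haveI : IsAffine A := U.2
  haveI : IsOpenImmersion j := inferInstanceAs (IsOpenImmersion U.1.ι)
  change AlgebraicGeometry.Flat (j ≫ f)
  obtain ⟨φ, hφ⟩ : ∃ φ : CommRingCat.of R ⟶ Γ(A, ⊤), A.isoSpec.inv ≫ j ≫ f = Spec.map φ :=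
    ⟨Spec.preimage (A.isoSpec.inv ≫ j ≫ f), (Spec.map_preimage _).symm⟩
  suffices h : Flat (Spec.map φ) by
    have h' : AlgebraicGeometry.Flat (A.isoSpec.hom ≫ Spec.map φ) := inferInstance
    rwa [← hφ, Iso.hom_inv_id_assoc] at h'
  algebraize [φ.hom]
  haveI : IsLocallyNoetherian (Spec Γ(A, ⊤)) := isLocallyNoetherian_of_isOpenImmersion (A.isoSpec.inv ≫ j)
  haveI : IsNoetherianRing Γ(A, ⊤) := isLocallyNoetherian_Spec.1 inferInstance
  rw [HasRingHomProperty.Spec_iff (P := @AlgebraicGeometry.Flat)]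
  refine flat_of_reduced_fibre R Γ(A, ⊤) ?_ ?_
  · let g := A.isoSpec.inv ≫ j
    haveI : IsOpenImmersion g := inferInstance
    haveI : IsReduced (f.fiber (closedPoint R)) := hred
    have hg : g ≫ f = Spec.map φ := by rw [← hφ, Category.assoc]
    let k : (Spec.map φ).fiber (closedPoint R) ≅
        pullback g (pullback.fst f ((Spec (CommRingCat.of R)).fromSpecResidueField (closedPoint R))) :=
      pullback.congrHom hg.symm rfl ≪≫ (pullbackRightPullbackFstIso f _ g).symm
    haveI : IsReduced ((Spec.map φ).fiber (closedPoint R)) :=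
      haveI : IsReduced (pullback f ((Spec (CommRingCat.of R)).fromSpecResidueField (closedPoint R))) := hred
      isReduced_of_isOpenImmersion (k.hom ≫ pullback.snd _ _)
    let e : (Spec.map φ).fiber (closedPoint R) ≅
        Spec (CommRingCat.of ((closedPoint R).asIdeal.Fiber Γ(A, ⊤))) :=
      Comma.leftIso (Spec.fiberToSpecResidueFieldIso R Γ(A, ⊤) (closedPoint R))
    haveI : IsReduced (Spec (CommRingCat.of ((closedPoint R).asIdeal.Fiber Γ(A, ⊤)))) :=
      isReduced_of_isOpenImmersion e.inv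
    exact (affine_isReduced_iff (CommRingCat.of ((closedPoint R).asIdeal.Fiber Γ(A, ⊤)))).1 inferInstance
  · intro q hq r hr hrq
    haveI := hq.1.1
    by_contra hr0
    let x : Spec Γ(A, ⊤) := ⟨q, inferInstance⟩
    have hgen : ∀ y : Spec Γ(A, ⊤), f.base ((A.isoSpec.inv ≫ j).base y) =
        (Spec.map φ).base y := fun y => by
      rw [← hφ]; rfl
    have hd : Dense ((Spec.map φ).base ⁻¹' {genericPoint (Spec (CommRingCat.of R))}) := by
      have := hdense.preimage (A.isoSpec.inv ≫ j).isOpenEmbedding.isOpenMap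
      exact this.mono fun y hy => by
        simp only [Set.mem_preimage, Set.mem_singleton_iff] at hy ⊢
        rw [← hgen]; exact hy
    obtain ⟨s, hs, hsmin⟩ : ∃ s : Γ(A, ⊤), s ∉ q ∧ ∀ p : PrimeSpectrum Γ(A, ⊤), s ∉ p.asIdeal →
        ∀ p', p' ∈ minimalPrimes Γ(A, ⊤) → p' ≤ p.asIdeal → p' = q := by
      classical
      have hfin := minimalPrimes.finite_of_isNoetherianRing Γ(A, ⊤)
      choose t ht using fun p : {p // p ∈ hfin.toFinset.erase q} => SetLike.not_le_iff_exists.1
        (fun h : p.1 ≤ q => (Finset.mem_erase.1 p.2).1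
          (le_antisymm h (hq.2 ⟨(hfin.mem_toFinset.1 (Finset.mem_erase.1 p.2).2).1.1, bot_le⟩ h)))
      refine ⟨∏ p, t p, fun h => ?_, fun p hp p' hp' hle => ?_⟩
      · obtain ⟨p, -, hp⟩ := (hq.1.1.prod_mem_iff).1 h
        exact (ht p).2 hp
      · by_contra hne
        exact hp (hle (Ideal.mem_of_dvd p' (Finset.dvd_prod_of_mem t (Finset.mem_univ
          ⟨p', Finset.mem_erase.2 ⟨hne, hfin.mem_toFinset.2 hp'⟩⟩)) (ht ⟨p', Finset.mem_erase.2 ⟨hne, hfin.mem_toFinset.2 hp'⟩⟩).1))
    obtain ⟨p, hp, hpgen⟩ := hd.inter_open_nonempty (PrimeSpectrum.basicOpen s : Set (PrimeSpectrum Γ(A, ⊤)))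
      (PrimeSpectrum.basicOpen s).2 ⟨x, hs⟩
    haveI : p.asIdeal.IsPrime := p.isPrime
    obtain ⟨p', hp', hle⟩ := Ideal.exists_minimalPrimes_le (J := p.asIdeal) (bot_le : (⊥ : Ideal Γ(A, ⊤)) ≤ p.asIdeal)
    have heq : p' = q := hsmin p hp p' hp' hle
    have hz : (Spec.map φ).base p = genericPoint (Spec (CommRingCat.of R)) := hpgen
    have hbot : p.asIdeal.comap φ.hom = ⊥ := by
      have h := congrArg PrimeSpectrum.asIdeal hz
      rw [genericPoint_eq_bot_of_affine] at h
      exact h
    exact hr0 ((Ideal.mem_bot).1 (hbot ▸ (hle (heq ▸ hrq) : φ.hom r ∈ p.asIdeal)))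

end Groth.Agent.DvrFlatRedLib
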